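import Cfsg.Agent.Lib.Helper12.TC.ONP1x26068.Fin0
import Cfsg.Agent.Lib.Helper12.TC.ONP1x26068.Fin1
import Cfsg.Agent.Lib.Helper12.TC.ONP1x26068.Fin2
import Cfsg.Agent.Lib.Helper12.TC.ONP1x26068.Fin3
import Cfsg.Agent.Lib.Helper12.TC.ONP1x26068.Tab
import Cfsg.Agent.Lib.Helper12.TC.ONP1Pres

/-! the final table for ONP1x26068 (generated, helper12) -/

set_option autoImplicit false
set_option maxRecDepth 100000
set_option linter.unusedSimpArgs false

namespace Cfsg.Agent.Lib.Helper12.TC.ONP1x26068

open Cfsg.Agent.Lib.Helper12.TC Cfsg.Agent.Lib.Helper12.TC.ONP1Pres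

theorem hdefs : defsK F cD = true := by decide +kernel

theorem hlive : Nat.beq (liveK finrecs) LIVE = true := by decide +kernel

theorem hlive0 : bitK LIVE 0 = true := by decide +kernel

theorem hfin : finK F cK 6 finrecs = true :=
  Fn.finK_of_parts hlive hlive0 (Fn.allListK_append hfin_0 (Fn.allListK_append hfin_1 (Fn.allListK_append hfin_2 hfin_3)))

theorem hlen : finrecs.length = cN := by decide +kernel

theorem hrelc : relCheckK RW cR0 cR (baseL Cfsg.Agent.Lib.Helper12.Ord.ONP1.edges gen 6 extraWords) rotW sw = true := by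
  decide +kernel

theorem hlet : lettersK 6 (baseL Cfsg.Agent.Lib.Helper12.Ord.ONP1.edges gen 6 extraWords) = true := by decide +kernel

end Cfsg.Agent.Lib.Helper12.TC.ONP1x26068
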