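import Cfsg.Agent.Lib.Helper12.TC.ONP1x26068.Rel0
import Cfsg.Agent.Lib.Helper12.TC.ONP1x26068.Rel1
import Cfsg.Agent.Lib.Helper12.TC.ONP1x26068.Rel2
import Cfsg.Agent.Lib.Helper12.TC.ONP1x26068.Rel3
import Cfsg.Agent.Lib.Helper12.TC.ONP1Pres

/-! the permutation representation for ONP1x26068 (generated, helper12) -/

set_option autoImplicit false
set_option maxRecDepth 100000
set_option linter.unusedSimpArgs false

namespace Cfsg.Agent.Lib.Helper12.TC.ONP1x26068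

open Cfsg.Agent.Lib.Helper12.TC Cfsg.Agent.Lib.Helper12.TC.ONP1Pres

theorem hperm : Fn.permK TT 6 cN = true := by
  refine Fn.permK_of_ones (fun x hx => ?_)
  interval_cases x
  · exact hperm0
  · exact hperm1
  · exact hperm2
  · exact hperm3
  · exact hperm4
  · exact hperm5

/-- words as powers -/
def specs : List (List ℕ × ℕ) :=
  [([0, 1], 3),
   ([0, 2], 2),
   ([1, 2], 3),
   ([0, 3], 2),
   ([1, 3], 2),
   ([2, 3], 8),
   ([0, 4], 2),
   ([1, 4], 2),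
   ([2, 4], 2),
   ([3, 4], 3),
   ([0, 5], 2),
   ([1, 5], 2),
   ([2, 5], 2),
   ([3, 5], 2),
   ([4, 5], 3),
   ([0, 5, 3, 2, 3, 2, 3, 2, 3, 2], 1)]

theorem hspecs : coxWords Cfsg.Agent.Lib.Helper12.Ord.ONP1.edges gen 6 ++ extraWords =
    specs.map (fun s => wpow s.1 s.2) := by
  decide +kernel

theorem hfix15 : ∀ i < cN, (Fn.applyW TT ([0, 5, 3, 2, 3, 2, 3, 2, 3, 2], 1).1)^[([0, 5, 3, 2, 3, 2, 3, 2, 3, 2], 1).2] i = i :=
  Fn.fix_of_rangeOK (Fn.rangeOK_step hm15_2 rfl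
    (Fn.rangeOK_step hm15_1 rfl
    (Fn.rangeOK_step hm15_0 rfl
    (Fn.rangeOK_start TT [0, 5, 3, 2, 3, 2, 3, 2, 3, 2] 1 cN))))

theorem hfixall : Fn.FixAll TT cN specs :=
  Fn.fixAll_cons (Fn.fix_of_marksK hm0)
    (Fn.fixAll_cons (Fn.fix_of_marksK hm1)
    (Fn.fixAll_cons (Fn.fix_of_marksK hm2)
    (Fn.fixAll_cons (Fn.fix_of_marksK hm3)
    (Fn.fixAll_cons (Fn.fix_of_marksK hm4)
    (Fn.fixAll_cons (Fn.fix_of_marksK hm5)
    (Fn.fixAll_cons (Fn.fix_of_marksK hm6)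
    (Fn.fixAll_cons (Fn.fix_of_marksK hm7)
    (Fn.fixAll_cons (Fn.fix_of_marksK hm8)
    (Fn.fixAll_cons (Fn.fix_of_marksK hm9)
    (Fn.fixAll_cons (Fn.fix_of_marksK hm10)
    (Fn.fixAll_cons (Fn.fix_of_marksK hm11)
    (Fn.fixAll_cons (Fn.fix_of_marksK hm12)
    (Fn.fixAll_cons (Fn.fix_of_marksK hm13)
    (Fn.fixAll_cons (Fn.fix_of_marksK hm14)
    (Fn.fixAll_cons hfix15
    (Fn.fixAll_nil TT cN))))))))))))))))

theorem hrels : Fn.relsK TT cN (coxWords Cfsg.Agent.Lib.Helper12.Ord.ONP1.edges gen 6 ++ extraWords) = true := by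
  rw [hspecs]
  exact Fn.relsK_of_fixAll hfixall

theorem hsub : Fn.subK TT 6 sw = true := by decide +kernel

theorem htrans : Fn.transK TT 6 cN sw = true := by decide +kernel

end Cfsg.Agent.Lib.Helper12.TC.ONP1x26068
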