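import Cfsg.Agent.Lib.Helper12.TC.ONP1x26068.Chk0
import Cfsg.Agent.Lib.Helper12.TC.ONP1x26068.Chk1
import Cfsg.Agent.Lib.Helper12.TC.ONP1x26068.Chk2
import Cfsg.Agent.Lib.Helper12.TC.ONP1x26068.Chk3
import Cfsg.Agent.Lib.Helper12.TC.ONP1x26068.Perm
import Cfsg.Agent.Lib.Helper12.TC.ONP1x26068.Fin

/-! the index theorem for ONP1x26068 (generated, helper12) -/

set_option autoImplicit false
set_option maxRecDepth 100000
set_option linter.unusedSimpArgs false

namespace Cfsg.Agent.Lib.Helper12.TC.ONP1x26068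

open Cfsg.Agent.Lib.Helper12.TC Cfsg.Agent.Lib.Helper12.TC.ONP1Pres

/-- the chunks of the certificate -/
def chunks : List (ℕ × List ℕ) :=
  [(26095, c0), (28095, c1), (30095, c2), (32095, c3), (34095, c4), (36095, c5), (38095, c6), (40095, c7), (42095, c8), (44095, c9), (46095, c10), (48095, c11), (50095, c12), (52095, c13), (54095, c14), (56095, c15), (58095, c16), (60095, c17), (62095, c18), (64095, c19), (66095, c20), (68095, c21), (70095, c22), (72095, c23), (74095, c24), (76095, c25), (78095, c26)]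

theorem hcover : coverK cD cK chunks = true := by decide +kernel

theorem hchunks : ∀ c ∈ chunks, chunkK F RW cR0 c.2 c.1 = true := by
  unfold chunks
  simp only [List.forall_mem_cons, List.not_mem_nil, false_imp_iff, implies_true, and_true]
  exact ⟨chunk0, chunk1, chunk2, chunk3, chunk4, chunk5, chunk6, chunk7, chunk8, chunk9, chunk10, chunk11, chunk12, chunk13, chunk14, chunk15, chunk16, chunk17, chunk18, chunk19, chunk20, chunk21, chunk22, chunk23, chunk24, chunk25, chunk26⟩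

/-- the subgroup generators -/
def S : Set (FreeGroup Cfsg.Agent.Lib.Helper12.Ord.ONP1.Gen) := {Cfsg.Agent.Lib.Helper12.Ord.ONP1.a, Cfsg.Agent.Lib.Helper12.Ord.ONP1.b, Cfsg.Agent.Lib.Helper12.Ord.ONP1.d, Cfsg.Agent.Lib.Helper12.Ord.ONP1.e, Cfsg.Agent.Lib.Helper12.Ord.ONP1.f}

set_option maxRecDepth 10000 in
theorem hS : (PresentedGroup.mk (Cfsg.Spor.coxRelators Cfsg.Agent.Lib.Helper12.Ord.ONP1.edges ∪
      {r | r ∈ Cfsg.Agent.Lib.Helper12.Ord.ONP1.extra})) '' S =
    {γ | ∃ w ∈ sw, γ = wprod (fun i => PresentedGroup.mk (Cfsg.Spor.coxRelators Cfsg.Agent.Lib.Helper12.Ord.ONP1.edges ∪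
      {r | r ∈ Cfsg.Agent.Lib.Helper12.Ord.ONP1.extra}) (FreeGroup.of (gen i))) w} := by
  ext γ
  constructor
  · rintro ⟨x, hx, rfl⟩
    rcases hx with rfl | rfl | rfl | rfl | rfl
    · exact ⟨[0], by decide, by simp [wprod, gen, pow_succ, mul_assoc]⟩
    · exact ⟨[1], by decide, by simp [wprod, gen, pow_succ, mul_assoc]⟩
    · exact ⟨[3], by decide, by simp [wprod, gen, pow_succ, mul_assoc]⟩
    · exact ⟨[4], by decide, by simp [wprod, gen, pow_succ, mul_assoc]⟩
    · exact ⟨[5], by decide, by simp [wprod, gen, pow_succ, mul_assoc]⟩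
  · rintro ⟨w, hw, rfl⟩
    simp only [sw, List.mem_cons, List.not_mem_nil, or_false] at hw
    rcases hw with rfl | rfl | rfl | rfl | rfl
    · exact ⟨Cfsg.Agent.Lib.Helper12.Ord.ONP1.a, Or.inl rfl, by simp [wprod, gen, pow_succ, mul_assoc]⟩
    · exact ⟨Cfsg.Agent.Lib.Helper12.Ord.ONP1.b, Or.inr (Or.inl rfl), by simp [wprod, gen, pow_succ, mul_assoc]⟩
    · exact ⟨Cfsg.Agent.Lib.Helper12.Ord.ONP1.d, Or.inr (Or.inr (Or.inl rfl)), by simp [wprod, gen, pow_succ, mul_assoc]⟩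
    · exact ⟨Cfsg.Agent.Lib.Helper12.Ord.ONP1.e, Or.inr (Or.inr (Or.inr (Or.inl rfl))), by simp [wprod, gen, pow_succ, mul_assoc]⟩
    · exact ⟨Cfsg.Agent.Lib.Helper12.Ord.ONP1.f, Or.inr (Or.inr (Or.inr (Or.inr (rfl)))), by simp [wprod, gen, pow_succ, mul_assoc]⟩

/-- the index of the subgroup and the orbits on its cosets -/
theorem main :
    ((Subgroup.closure S).map (PresentedGroup.mk (Cfsg.Spor.coxRelators Cfsg.Agent.Lib.Helper12.Ord.ONP1.edges ∪
      {r | r ∈ Cfsg.Agent.Lib.Helper12.Ord.ONP1.extra}))).index = cN ∧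
    ∃ Φ : (PresentedGroup (Cfsg.Spor.coxRelators Cfsg.Agent.Lib.Helper12.Ord.ONP1.edges ∪
      {r | r ∈ Cfsg.Agent.Lib.Helper12.Ord.ONP1.extra}) ⧸
        (Subgroup.closure S).map (PresentedGroup.mk (Cfsg.Spor.coxRelators Cfsg.Agent.Lib.Helper12.Ord.ONP1.edges ∪
      {r | r ∈ Cfsg.Agent.Lib.Helper12.Ord.ONP1.extra}))) ≃ Fin cN,
      ∀ (b : Fin cN) (hi : ℕ), b.val < hi → hi ≤ cN → Fn.orbInvK TT sw b.val hi = true →
        Fn.orbConnK TT sw b.val hi = true →
        Φ '' (MulAction.orbit ((Subgroup.closure S).map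
          (PresentedGroup.mk (Cfsg.Spor.coxRelators Cfsg.Agent.Lib.Helper12.Ord.ONP1.edges ∪
      {r | r ∈ Cfsg.Agent.Lib.Helper12.Ord.ONP1.extra}))) (Φ.symm b)) =
          {i : Fin cN | b.val ≤ i.val ∧ i.val < hi} :=
  Fn.presented_index Cfsg.Agent.Lib.Helper12.Ord.ONP1.edges Cfsg.Agent.Lib.Helper12.Ord.ONP1.extra gen idx 6 (by decide) hidx hgi hnodes
    extraWords hextra sw S hS F RW finrecs TT rotW chunks cD cK cR0 cR cN hdefs hchunks hcover
    hrelc hlet hperm hrels hsub htrans hfin hlen (by decide)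

end Cfsg.Agent.Lib.Helper12.TC.ONP1x26068
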